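import Groth.Agent.Curves.K756.EDef
import Groth.Agent.Curves.K756.LatNum
import Groth.Agent.Curves.K703.Node3
import Groth.Agent.Curves.K321.SmoothPid

/-!
# The numerical inequality for the lattices of tuples on a curve

Node 7 of helper756's plan (dimension bound for spaces of morphisms from a curve): for the lattice `Es s B` of tuples
and a linear map `δ` vanishing at `s`, `h⁰(Es) - h⁰(δ Es) ≥ (n + 1) χ(O) - deg M - n |B|`, when the kernel of `δ`
modulo `s` is the dual of the locally free module `M` of rank `n`.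
-/

set_option autoImplicit false
set_option linter.unusedSectionVars false
universe u
open CategoryTheory CategoryTheory.Limits AlgebraicGeometry TopologicalSpace Opposite TensorProduct Module
open K756.FamDef K756.LatSh K756.LatSeq K756.LatNum K756.EDef

namespace K850.NumBound

open Groth.Agent Groth.Agent.CycB K475.GenStalk

section lat

variable {C : Scheme.{u}} [IsIntegral C]
  {W : Type u} [AddCommGroup W] [∀ x : C, Module (C.presheaf.stalk x) W] [Module C.functionField W]
  [∀ x : C, IsScalarTower (C.presheaf.stalk x) C.functionField W]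
  {W' : Type u} [AddCommGroup W'] [∀ x : C, Module (C.presheaf.stalk x) W'] [Module C.functionField W']
  [∀ x : C, IsScalarTower (C.presheaf.stalk x) C.functionField W']

/-- Products of nice families are nice. -/
theorem nice_prod {P : ∀ x : C, Submodule (C.presheaf.stalk x) W}
    {P' : ∀ x : C, Submodule (C.presheaf.stalk x) W'}
    {r r' : ℕ} (h : Nice P r) (h' : Nice P' r') :
    Nice (W := W × W') (fun x => (P x).prod (P' x)) (r + r') := by
  intro x
  obtain ⟨U, hxU, v, hv, hU⟩ := h x
  obtain ⟨U', hxU', v', hv', hU'⟩ := h' x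
  refine ⟨U ⊓ U', ⟨hxU, hxU'⟩, Sum.elim (LinearMap.inl C.functionField W W' ∘ v)
    (LinearMap.inr C.functionField W W' ∘ v') ∘ finSumFinEquiv.symm, ?_, ?_⟩
  · exact (linearIndependent_inl_union_inr' hv hv').comp _ finSumFinEquiv.symm.injective
  · rintro y ⟨hy, hy'⟩
    have e : Set.range (Sum.elim (LinearMap.inl C.functionField W W' ∘ v)
        (LinearMap.inr C.functionField W W' ∘ v') ∘ finSumFinEquiv.symm) =
        LinearMap.inl (C.presheaf.stalk y) W W' '' Set.range v ∪
          LinearMap.inr (C.presheaf.stalk y) W W' '' Set.range v' := by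
      rw [EquivLike.range_comp, Set.Sum.elim_range, Set.range_comp, Set.range_comp]
      rfl
    rw [e, LinearMap.span_inl_union_inr, ← hU y hy, ← hU' y hy']

/-- Sums of nice families are nice. -/
theorem nice_sup (hreg : ∀ x : C, IsPrincipalIdealRing (C.presheaf.stalk x))
    {P P' : ∀ x : C, Submodule (C.presheaf.stalk x) W} {r r' : ℕ} (h : Nice P r) (h' : Nice P' r') :
    ∃ n, Nice (fun x => P x ⊔ P' x) n := by
  obtain ⟨n, -, -, h1, -⟩ := nice_map_ker hreg (nice_prod h h')
    (LinearMap.coprod LinearMap.id LinearMap.id : (W × W) →ₗ[C.functionField] W)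
  refine ⟨n, ?_⟩
  convert h1 using 1
  funext x
  ext w
  rw [Submodule.mem_sup]
  constructor
  · rintro ⟨y, hy, z, hz, rfl⟩
    exact ⟨(y, z), ⟨hy, hz⟩, rfl⟩
  · rintro ⟨⟨y, z⟩, ⟨hy, hz⟩, rfl⟩
    exact ⟨y, hy, z, hz, rfl⟩

/-- The span of a nonzero vector is nice of rank one. -/
theorem nice_span (s : W) (hs : s ≠ 0) :
    Nice (fun x : C => Submodule.span (C.presheaf.stalk x) {s}) 1 := by
  intro x
  refine ⟨⊤, trivial, fun _ => s, ?_, fun y _ => ?_⟩
  · exact (linearIndependent_unique_iff (v := fun _ : Fin 1 => s)).mpr hs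
  · rw [Set.range_const]

/-- The Euler characteristic of the span of a nonzero vector. -/
theorem euler_span (k : Type u) [Field k] [C.Over (Spec (CommRingCat.of k))]
    [IsProper (C ↘ Spec (CommRingCat.of k))] (hdim : topologicalKrullDim C = 1)
    (hreg : ∀ x : C, IsPrincipalIdealRing (C.presheaf.stalk x)) (s : W) (hs : s ≠ 0) :
    Curv2.euler k C (mod fun x : C => Submodule.span (C.presheaf.stalk x) {s}) =
      Curv2.euler k C (Coh.structureModule C) := by
  have hli : LinearIndependent C.functionField (fun _ : Fin 1 => s) :=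
    (linearIndependent_unique_iff (v := fun _ : Fin 1 => s)).mpr hs
  obtain ⟨-, h⟩ := K703.LatDual.euler_nice k hdim hreg
    (P := fun x : C => Submodule.span (C.presheaf.stalk x) {s}) (n := 1) (fun _ _ => s)
    (fun x => ⟨⊤, trivial, hli, fun y _ => by rw [Set.range_const]⟩) (fun _ => s) hli (fun _ => 1)
    (fun x j => by simp [Matrix.one_apply, Subsingleton.elim j 0])
  have h0 : ∀ x : C, CycAlg.ordFrac (C.presheaf.stalk x) C.functionField
      (1 : Matrix (Fin 1) (Fin 1) C.functionField).det = 0 := fun x => by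
    have := hreg x
    rw [Matrix.det_one]
    exact CycB.OrdFrac.ordFrac_one _ _
  simp only [h0, mul_zero, finsum_mem_zero] at h
  push_cast at h
  linarith

end lat

section tup

variable {C : Scheme.{u}} [IsIntegral C] {N : ℕ}

/-- One of two elements of the function field divides the other at a point where the local ring is principal. -/
theorem span_total (z : C) [IsPrincipalIdealRing (C.presheaf.stalk z)] (a b : C.functionField) :
    Submodule.span (C.presheaf.stalk z) {a} ≤ Submodule.span (C.presheaf.stalk z) {b} ∨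
      Submodule.span (C.presheaf.stalk z) {b} ≤ Submodule.span (C.presheaf.stalk z) {a} := by
  have hv : ValuationRing (C.presheaf.stalk z) :=
    ValuationRing.iff_local_bezout_domain.mpr ⟨inferInstance, inferInstance⟩
  by_cases ha : a = 0
  · left
    rw [ha]
    simp
  by_cases hb : b = 0
  · right
    rw [hb]
    simp
  rcases ValuationRing.isInteger_or_isInteger (C.presheaf.stalk z) (a / b) with ⟨c, hc⟩ | ⟨c, hc⟩
  · left
    rw [Submodule.span_singleton_le_iff_mem, Submodule.mem_span_singleton]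
    exact ⟨c, by rw [Algebra.smul_def, hc, div_mul_cancel₀ _ hb]⟩
  · right
    rw [Submodule.span_singleton_le_iff_mem, Submodule.mem_span_singleton]
    exact ⟨c, by rw [Algebra.smul_def, hc, inv_div, div_mul_cancel₀ _ ha]⟩

/-- The fractional ideal is generated by one of the entries. -/
theorem exists_fr_eq (s : Fin (N + 1) → C.functionField) (z : C)
    [IsPrincipalIdealRing (C.presheaf.stalk z)] :
    ∃ i, fr s z = Submodule.span (C.presheaf.stalk z) {s i} := by
  have key : ∀ F : Finset (Fin (N + 1)), F.Nonempty → ∃ i, ∀ j ∈ F,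
      Submodule.span (C.presheaf.stalk z) {s j} ≤ Submodule.span (C.presheaf.stalk z) {s i} := by
    intro F hF
    induction hF using Finset.Nonempty.cons_induction with
    | singleton a => exact ⟨a, fun j hj => by rw [Finset.mem_singleton.mp hj]⟩
    | cons a F ha hF ih =>
      obtain ⟨i, hi⟩ := ih
      rcases span_total z (s a) (s i) with h | h
      · exact ⟨i, fun j hj => by
          rcases Finset.mem_cons.mp hj with rfl | hj
          · exact h
          · exact hi j hj⟩
      · exact ⟨a, fun j hj => by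
          rcases Finset.mem_cons.mp hj with rfl | hj
          · exact le_rfl
          · exact (hi j hj).trans h⟩
  obtain ⟨i, hi⟩ := key Finset.univ Finset.univ_nonempty
  refine ⟨i, le_antisymm ?_ ?_⟩
  · rw [fr, Submodule.span_le]
    rintro _ ⟨l, rfl⟩
    exact hi l (Finset.mem_univ l) (Submodule.mem_span_singleton_self _)
  · rw [Submodule.span_singleton_le_iff_mem]
    exact Submodule.subset_span ⟨i, rfl⟩

theorem ne_zero_of_fr_eq {s : Fin (N + 1) → C.functionField} {i₀ : Fin (N + 1)} (hs₀ : s i₀ = 1) {z : C}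
    {i : Fin (N + 1)} (h : fr s z = Submodule.span (C.presheaf.stalk z) {s i}) : s i ≠ 0 := by
  intro h0
  have h1 : s i₀ ∈ fr s z := Submodule.subset_span ⟨i₀, rfl⟩
  rw [h, h0, Submodule.mem_span_singleton] at h1
  obtain ⟨a, ha⟩ := h1
  rw [smul_zero, hs₀] at ha
  exact zero_ne_one ha

theorem mem_Ls_self (s : Fin (N + 1) → C.functionField) (z : C) : s ∈ Ls s z :=
  fun l => Submodule.subset_span ⟨l, rfl⟩

/-- The lattice of tuples is nice. -/
theorem nice_Ls (hreg : ∀ x : C, IsPrincipalIdealRing (C.presheaf.stalk x))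
    (s : Fin (N + 1) → C.functionField) (i₀ : Fin (N + 1)) (hs₀ : s i₀ = 1) : Nice (Ls s) (N + 1) := by
  intro z
  have := hreg z
  obtain ⟨i, hi⟩ := exists_fr_eq s z
  have hne := ne_zero_of_fr_eq hs₀ hi
  obtain ⟨U, hzU, hU⟩ := exists_open_span_eq (fun _ : Fin 1 => s i) s z (by
    rw [Set.range_const]
    exact hi)
  refine ⟨U, hzU, fun l => Pi.single l (s i), ?_, fun y hy => ?_⟩
  · rw [Fintype.linearIndependent_iff]
    intro g hg l
    have h1 := congrFun hg l
    rw [Finset.sum_apply] at h1
    simp only [Pi.smul_apply, smul_eq_mul, Pi.single_apply, Pi.zero_apply, mul_ite, mul_zero] at h1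
    rw [Finset.sum_ite_eq Finset.univ l] at h1
    simpa [hne] using h1
  · have h1 : fr s y = Submodule.span (C.presheaf.stalk y) {s i} := by
      have := hU y hy
      rw [Set.range_const] at this
      exact this
    ext v
    rw [mem_Ls, Submodule.mem_span_range_iff_exists_fun, h1]
    constructor
    · intro h
      choose c hc using fun l => Submodule.mem_span_singleton.mp (h l)
      refine ⟨c, ?_⟩
      funext l
      rw [Finset.sum_apply]
      simp only [Pi.smul_apply, Pi.single_apply, smul_ite, smul_zero]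
      rw [Finset.sum_ite_eq Finset.univ l]
      simp [hc]
    · rintro ⟨c, rfl⟩ l
      rw [Submodule.mem_span_singleton]
      refine ⟨c l, ?_⟩
      rw [Finset.sum_apply]
      simp only [Pi.smul_apply, Pi.single_apply, smul_ite, smul_zero]
      rw [Finset.sum_ite_eq Finset.univ l]
      simp

/-- The constrained lattice is nice. -/
theorem nice_Es (k : Type u) [Field k] [IsAlgClosed k] [C.Over (Spec (CommRingCat.of k))]
    [IsProper (C ↘ Spec (CommRingCat.of k))] (hdim : topologicalKrullDim C = 1)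
    (hreg : ∀ x : C, IsPrincipalIdealRing (C.presheaf.stalk x))
    (s : Fin (N + 1) → C.functionField) (i₀ : Fin (N + 1)) (hs₀ : s i₀ = 1)
    (B : Finset C) (hB : ∀ b ∈ B, IsClosed ({b} : Set C)) : ∃ n, Nice (Es s B) n := by
  classical
  have hs : s ≠ 0 := fun h => zero_ne_one ((congrFun h i₀).symm.trans hs₀)
  let Q : ∀ x : C, Submodule (C.presheaf.stalk x) (Fin (N + 1) → C.functionField) := fun x =>
    if x ∈ B then IsLocalRing.maximalIdeal (C.presheaf.stalk x) • Ls s x else Ls s x
  have hQ : Nice Q (N + 1) := (K703.Node3.nice_twist k C hdim hreg (Ls s) Q (nice_Ls hreg s i₀ hs₀) B hB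
    (fun x hx => if_neg hx) (fun x hx => if_pos hx)).1
  obtain ⟨n, hn⟩ := nice_sup hreg (nice_span s hs) hQ
  refine ⟨n, ?_⟩
  convert hn using 1
  funext x
  by_cases hx : x ∈ B
  · rw [Es_of_mem s hx]
    simp only [Q]
    rw [if_pos hx]
  · rw [Es_of_notMem s hx]
    simp only [Q]
    rw [if_neg hx, right_eq_sup, Submodule.span_singleton_le_iff_mem]
    exact mem_Ls_self s x

/-- Subtraction of the multiple of `s` with the same `i₀`-th entry. -/
noncomputable def prj (s : Fin (N + 1) → C.functionField) (i₀ : Fin (N + 1)) :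
    (Fin (N + 1) → C.functionField) →ₗ[C.functionField] (Fin (N + 1) → C.functionField) :=
  LinearMap.id - (LinearMap.proj i₀ : (Fin (N + 1) → C.functionField) →ₗ[C.functionField] C.functionField).smulRight s

theorem prj_apply (s : Fin (N + 1) → C.functionField) (i₀ : Fin (N + 1)) (v : Fin (N + 1) → C.functionField) :
    prj s i₀ v = v - v i₀ • s := rfl

theorem prj_self {s : Fin (N + 1) → C.functionField} {i₀ : Fin (N + 1)} (hs₀ : s i₀ = 1) : prj s i₀ s = 0 := by
  rw [prj_apply, hs₀, one_smul, sub_self]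

theorem Es_le_Ls (s : Fin (N + 1) → C.functionField) (B : Finset C) (z : C) : Es s B z ≤ Ls s z := by
  by_cases hz : z ∈ B
  · rw [Es_of_mem s hz, sup_le_iff, Submodule.span_singleton_le_iff_mem]
    exact ⟨mem_Ls_self s z, Submodule.smul_le_right⟩
  · rw [Es_of_notMem s hz]

theorem mem_Es_self (s : Fin (N + 1) → C.functionField) (B : Finset C) (z : C) : s ∈ Es s B z := by
  by_cases hz : z ∈ B
  · rw [Es_of_mem s hz]
    exact Submodule.mem_sup_left (Submodule.mem_span_singleton_self s)
  · rw [Es_of_notMem s hz]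
    exact mem_Ls_self s z

variable {W' : Type u} [AddCommGroup W'] [∀ x : C, Module (C.presheaf.stalk x) W'] [Module C.functionField W']
  [∀ x : C, IsScalarTower (C.presheaf.stalk x) C.functionField W']

/-- The kernel of the projection on the constrained lattice. -/
theorem ker_ker (hreg : ∀ x : C, IsPrincipalIdealRing (C.presheaf.stalk x))
    (s : Fin (N + 1) → C.functionField) (i₀ : Fin (N + 1)) (hs₀ : s i₀ = 1) (B : Finset C)
    (δ : (Fin (N + 1) → C.functionField) →ₗ[C.functionField] W') (hδ : δ s = 0) :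
    kerF (kerF (Es s B) δ) (prj s i₀) = fun z : C => Submodule.span (C.presheaf.stalk z) {s} := by
  funext z
  have := hreg z
  apply le_antisymm
  · rintro v ⟨⟨hv, -⟩, hv'⟩
    have h1 : v = v i₀ • s := by
      have : prj s i₀ v = 0 := hv'
      rwa [prj_apply, sub_eq_zero] at this
    obtain ⟨i, hi⟩ := exists_fr_eq s z
    have hne := ne_zero_of_fr_eq hs₀ hi
    have h2 : v i ∈ fr s z := Es_le_Ls s B z hv i
    rw [hi, Submodule.mem_span_singleton] at h2
    obtain ⟨a, ha⟩ := h2
    have h3 : algebraMap (C.presheaf.stalk z) C.functionField a = v i₀ := by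
      have h4 := congrFun h1 i
      rw [Pi.smul_apply, smul_eq_mul, ← ha, Algebra.smul_def] at h4
      exact mul_right_cancel₀ hne h4
    rw [Submodule.mem_span_singleton]
    refine ⟨a, ?_⟩
    rw [h1, smul_eq z, h3]
  · rw [Submodule.span_singleton_le_iff_mem]
    exact ⟨⟨mem_Es_self s B z, hδ⟩, prj_self hs₀⟩

/-- The image of the projection on the constrained lattice, at a point without constraint. -/
theorem map_ker_notMem (s : Fin (N + 1) → C.functionField) (i₀ : Fin (N + 1)) (B : Finset C)
    (δ : (Fin (N + 1) → C.functionField) →ₗ[C.functionField] W') {z : C} (hz : z ∉ B) :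
    mapF (kerF (Es s B) δ) (prj s i₀) z = mapF (kerF (Ls s) δ) (prj s i₀) z := by
  simp only [mapF, kerF, Es_of_notMem s hz]

/-- The image of the projection on the constrained lattice, at a point with constraint. -/
theorem map_ker_mem (hreg : ∀ x : C, IsPrincipalIdealRing (C.presheaf.stalk x))
    (s : Fin (N + 1) → C.functionField) (i₀ : Fin (N + 1)) (hs₀ : s i₀ = 1) (B : Finset C)
    (δ : (Fin (N + 1) → C.functionField) →ₗ[C.functionField] W') (hδ : δ s = 0) {z : C} (hz : z ∈ B)
    (hzη : z ≠ genericPoint C) :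
    mapF (kerF (Es s B) δ) (prj s i₀) z =
      IsLocalRing.maximalIdeal (C.presheaf.stalk z) • mapF (kerF (Ls s) δ) (prj s i₀) z := by
  have := hreg z
  have := K703.LatTwist.dvr_stalk hzη
  obtain ⟨w, hw⟩ := IsDiscreteValuationRing.exists_irreducible (C.presheaf.stalk z)
  have hw0 : w ≠ 0 := hw.ne_zero
  have hinj : Function.Injective (algebraMap (C.presheaf.stalk z) C.functionField) := IsFractionRing.injective _ _
  have hw0' : algebraMap (C.presheaf.stalk z) C.functionField w ≠ 0 := (map_ne_zero_iff _ hinj).mpr hw0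
  rw [hw.maximalIdeal_eq, Submodule.ideal_span_singleton_smul]
  ext t
  rw [Submodule.mem_smul_pointwise_iff_exists]
  constructor
  · rintro ⟨v, ⟨hv, hδv⟩, rfl⟩
    rw [SetLike.mem_coe, Es_of_mem s hz, hw.maximalIdeal_eq, Submodule.ideal_span_singleton_smul,
      Submodule.mem_sup] at hv
    obtain ⟨v1, h1, v2, h2, rfl⟩ := hv
    obtain ⟨a, rfl⟩ := Submodule.mem_span_singleton.mp h1
    obtain ⟨v', hv', rfl⟩ := (Submodule.mem_smul_pointwise_iff_exists _ _ _).mp h2
    refine ⟨prj s i₀ v', ⟨v', ⟨hv', ?_⟩, rfl⟩, ?_⟩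
    · have h3 : δ (a • s + w • v') = 0 := hδv
      rw [map_add, map_smul_stalk, map_smul_stalk, hδ, smul_zero, zero_add, smul_eq z, smul_eq_zero] at h3
      exact h3.resolve_left hw0'
    · change _ = prj s i₀ (a • s + w • v')
      rw [map_add, map_smul_stalk, map_smul_stalk, prj_self hs₀, smul_zero, zero_add]
  · rintro ⟨t', ⟨v', ⟨hv', hδv'⟩, rfl⟩, rfl⟩
    refine ⟨w • v', ⟨?_, ?_⟩, map_smul_stalk _ z w v'⟩
    · rw [SetLike.mem_coe, Es_of_mem s hz, hw.maximalIdeal_eq, Submodule.ideal_span_singleton_smul]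
      exact Submodule.mem_sup_right (Submodule.smul_mem_pointwise_smul _ _ _ hv')
    · change δ (w • v') = 0
      have h3 : δ v' = 0 := hδv'
      rw [map_smul_stalk, h3, smul_zero]

end tup

attribute [local instance] Curv2.stalkAlgebra

theorem num_bound (k : Type u) [Field k] [IsAlgClosed k] (C : Scheme.{u}) [C.Over (Spec (CommRingCat.of k))] [IsIntegral C]
    (hC : Curve.IsSmoothProperCurve k C (C ↘ Spec (CommRingCat.of k))) {N : ℕ}
    (s : Fin (N + 1) → C.functionField) (i₀ : Fin (N + 1)) (hs₀ : s i₀ = 1)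
    (B : Finset C) (hB : ∀ b ∈ B, IsClosed ({b} : Set C))
    {W' : Type u} [AddCommGroup W'] [∀ x : C, Module (C.presheaf.stalk x) W'] [Module C.functionField W']
    [∀ x : C, IsScalarTower (C.presheaf.stalk x) C.functionField W'] [Module k W']
    [IsScalarTower k C.functionField W']
    (δ : (Fin (N + 1) → C.functionField) →ₗ[C.functionField] W') (hδ : δ s = 0)
    {M : C.Modules} {n : ℕ} (hM : FlatMod.IsFinLocFreeOfRank n M)
    (Φ : Module.Dual C.functionField (M.presheaf.stalk (genericPoint C)) →ₗ[C.functionField]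
      (Fin (N + 1) → C.functionField)) (hΦ : Function.Injective Φ)
    (hΦ' : ∀ (z : C) (t : Fin (N + 1) → C.functionField),
      (∃ v ∈ Ls s z, δ v = 0 ∧ ∀ l, t l = v l - v i₀ * s l) ↔ ∃ ξ, K703.Node3.IsIntAt M z ξ ∧ Φ ξ = t) :
    Module.Finite k (sects k (Es s B)) ∧ Module.Finite k (sects k (mapF (Es s B) δ)) ∧
    (finrank k (sects k (mapF (Es s B) δ)) : ℤ) + (n + 1) * Curv2.euler k C (Coh.structureModule C) -
      Curv2.deg k C M n - n * B.card ≤ finrank k (sects k (Es s B)) := by
  have hprop : IsProper (C ↘ Spec (CommRingCat.of k)) := hC.1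
  have hdim : topologicalKrullDim C = 1 := hC.2.2.2
  have hreg : ∀ x : C, IsPrincipalIdealRing (C.presheaf.stalk x) := K321.SmoothPid.isPrincipalIdealRing hC
  have hs : s ≠ 0 := fun h => zero_ne_one ((congrFun h i₀).symm.trans hs₀)
  have hcoh : ∀ {V : Type u} [AddCommGroup V] [∀ x : C, Module (C.presheaf.stalk x) V] [Module C.functionField V]
      [∀ x : C, IsScalarTower (C.presheaf.stalk x) C.functionField V]
      {P : ∀ x : C, Submodule (C.presheaf.stalk x) V} {r : ℕ}, Nice P r → Coh.IsCoh (mod P) := by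
    intro V _ _ _ _ P r h
    have : IsLocallyNoetherian C := LocallyOfFiniteType.isLocallyNoetherian (C ↘ Spec (CommRingCat.of k))
    exact PerfA.CohSerre.isCoh_of_isFinLocFree (Krr.H487.KerRank.isFinLocFree_of_rank
      (K756.LatFree.isFinLocFreeOfRank h))
  obtain ⟨hT, eT⟩ := K703.Node3.nice_dual k C hdim hreg hM (mapF (kerF (Ls s) δ) (prj s i₀)) Φ hΦ
    (fun z t => by
      rw [← hΦ' z t]
      constructor
      · rintro ⟨v, ⟨hv, hδv⟩, rfl⟩
        exact ⟨v, hv, hδv, fun l => rfl⟩
      · rintro ⟨v, hv, hδv, ht⟩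
        exact ⟨v, ⟨hv, hδv⟩, (funext ht).symm⟩)
  obtain ⟨n', hE⟩ := nice_Es k hdim hreg s i₀ hs₀ B hB
  obtain ⟨hcl, hgen, -⟩ := K321.LatSum.points k C hdim
  obtain ⟨hT', eT'⟩ := K703.Node3.nice_twist k C hdim hreg (mapF (kerF (Ls s) δ) (prj s i₀))
    (mapF (kerF (Es s B) δ) (prj s i₀)) hT B hB (fun z hz => map_ker_notMem s i₀ B δ hz)
    (fun z hz => map_ker_mem hreg s i₀ hs₀ B δ hδ hz fun h => hgen (h ▸ hB z hz))
  obtain ⟨r1, r2, -, hn1, hn2⟩ := nice_map_ker hreg hE δ
  obtain ⟨S1, hS1, a1, a2, a3⟩ := shortExact_ker_map hreg hE δ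
  obtain ⟨S2, hS2, b1, b2, b3⟩ := shortExact_ker_map hreg hn2 (prj s i₀)
  have h1 := euler_le k hdim hS1 (a1 ▸ hcoh hn2) (a2 ▸ hcoh hE) (a3 ▸ hcoh hn1)
  rw [a1, a2, a3, finrank_H0, finrank_H0] at h1
  have hn3 : Nice (kerF (kerF (Es s B) δ) (prj s i₀)) 1 := by
    rw [ker_ker hreg s i₀ hs₀ B δ hδ]
    exact nice_span s hs
  have h2 := S1524.result k C S2 hS2 (b1 ▸ hcoh hn3) (b2 ▸ hcoh hn2) (b3 ▸ hcoh hT')
  rw [b1, b2, b3, eT', ker_ker hreg s i₀ hs₀ B δ hδ, euler_span k hdim hreg s hs] at h2
  refine ⟨finite_sects k _ (hcoh hE), finite_sects k _ (hcoh hn1), ?_⟩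
  rw [h2] at h1
  rw [Curv2.deg]
  linarith

end K850.NumBound
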